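import Cfsg.Agent.Hexagon.HexComm
import Cfsg.Agent.RootSeq.Final
import Cfsg.Agent.Prune
set_option linter.all false
prune_inst 0x7f00000000000000000000000000000000000000000000000000000000000000000000000000000000000000000000000000000000000000000000000000000000000000000000000000000000000000003fffffffffffffffffffffffffffbeffbdffffffff
open scoped Cfsg.Agent.FastGrp
/-!
# Identification of groups with a hexagonal root system in coordinates (S1144, m = 6)

* `HexPar.sq` : a hexagonal system over `(E, σ)` is one over `(E, σ²)`;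
* `fam_of_hexPar` : two groups with the same `(E, σ)` give a compatible family of graphs;
* `nonempty_mulEquiv` : two simple groups with the same `(E, σ)` are isomorphic;
* `nonempty_mulEquiv_core` : the same if both groups have no normal subgroup in the Borel subgroup.
-/

set_option autoImplicit false

namespace Cfsg.Agent.Hexagon.Ident

open Cfsg.Agent.SplitTwo Cfsg.Agent.Hexagon.HexComm
open Cfsg.Agent.TitsThree.RankTwoRGD Cfsg.Agent.TitsThree.RankTwoIdx Cfsg.Agent.TitsThree.RankTwoZ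
open Cfsg.Agent.RootSeq.Seg Cfsg.Agent.RootSeq.Cell Cfsg.Agent.RootSeq.Main Cfsg.Agent.RootSeq.Final
open scoped commutatorElement

universe u v

/-! ### `σ` and `σ²` -/

section sq

variable {E : Type*} [Field E] {σ τ : E ≃+* E} (hτ : ∀ a, τ a = σ (σ a))
  (hc : ∀ a, σ (σ (σ a)) = a)

include hτ hc

theorem fix_iff (a : E) : τ a = a ↔ σ a = a := by
  rw [hτ]
  constructor
  · intro h
    have h1 := congrArg σ h
    rw [hc] at h1
    exact h1.symm
  · intro h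
    rw [h, h]

theorem ττ (a : E) : τ (τ a) = σ a := by rw [hτ, hτ, hc]

theorem trc_sq (a b : E) : trc τ a b = trc σ a b := by
  unfold trc
  rw [ττ hτ hc, hτ]
  ring

theorem nrm_sq (a : E) : nrm τ a = nrm σ a := by
  unfold nrm
  rw [ττ hτ hc, hτ]
  ring

theorem shp_sq (a : E) : shp τ a = shp σ a := by
  unfold shp
  rw [ττ hτ hc, hτ]
  ring

theorem crs_sq (a b : E) : crs τ a b = crs σ a b := by
  unfold crs
  rw [ττ hτ hc, ττ hτ hc, hτ, hτ]
  ring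

theorem HexRel.sq {G : Type*} [Group G] {x1 x2 x3 x4 x5 x6 : E → G}
    (h : HexRel σ x1 x2 x3 x4 x5 x6) : HexRel τ x1 x2 x3 x4 x5 x6 where
  cube a := by rw [ττ hτ hc, hτ, hc]
  add1 := h.add1
  add2 a b ha hb := h.add2 a b ((fix_iff hτ hc a).1 ha) ((fix_iff hτ hc b).1 hb)
  add3 := h.add3
  add4 a b ha hb := h.add4 a b ((fix_iff hτ hc a).1 ha) ((fix_iff hτ hc b).1 hb)
  add5 := h.add5
  add6 a b ha hb := h.add6 a b ((fix_iff hτ hc a).1 ha) ((fix_iff hτ hc b).1 hb)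
  c12 a t ht := h.c12 a t ((fix_iff hτ hc t).1 ht)
  c13 a b := by rw [h.c13, trc_sq hτ hc]
  c14 a t ht := h.c14 a t ((fix_iff hτ hc t).1 ht)
  c15 a b := by rw [h.c15, trc_sq hτ hc, trc_sq hτ hc, shp_sq hτ hc, shp_sq hτ hc, crs_sq hτ hc]
  c16 a t ht := by rw [h.c16 a t ((fix_iff hτ hc t).1 ht), nrm_sq hτ hc, shp_sq hτ hc]
  c23 t a ht := h.c23 t a ((fix_iff hτ hc t).1 ht)
  c24 t u ht hu := h.c24 t u ((fix_iff hτ hc t).1 ht) ((fix_iff hτ hc u).1 hu)
  c25 t a ht := h.c25 t a ((fix_iff hτ hc t).1 ht)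
  c26 t u ht hu := h.c26 t u ((fix_iff hτ hc t).1 ht) ((fix_iff hτ hc u).1 hu)
  c34 a t ht := h.c34 a t ((fix_iff hτ hc t).1 ht)
  c35 a b := by rw [h.c35, trc_sq hτ hc]
  c36 a t ht := h.c36 a t ((fix_iff hτ hc t).1 ht)
  c45 t a ht := h.c45 t a ((fix_iff hτ hc t).1 ht)
  c46 t u ht hu := h.c46 t u ((fix_iff hτ hc t).1 ht) ((fix_iff hτ hc u).1 hu)
  c56 a t ht := h.c56 a t ((fix_iff hτ hc t).1 ht)

/-- A hexagonal system over `(E, σ)` is one over `(E, σ²)`. -/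
theorem HexPar.sq {G : Type*} [Group G] {X : ZMod (2 * 6) → Subgroup G}
    {x1 x2 x3 x4 x5 x6 : E → G} (h : HexPar σ X x1 x2 x3 x4 x5 x6) :
    HexPar τ X x1 x2 x3 x4 x5 x6 where
  rel := HexRel.sq hτ hc h.rel
  inj1 := h.inj1
  inj2 a b ha hb := h.inj2 a b ((fix_iff hτ hc a).1 ha) ((fix_iff hτ hc b).1 hb)
  inj3 := h.inj3
  inj4 a b ha hb := h.inj4 a b ((fix_iff hτ hc a).1 ha) ((fix_iff hτ hc b).1 hb)
  inj5 := h.inj5
  inj6 a b ha hb := h.inj6 a b ((fix_iff hτ hc a).1 ha) ((fix_iff hτ hc b).1 hb)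
  mem1 := h.mem1
  mem2 g := by simp only [fix_iff hτ hc]; exact h.mem2 g
  mem3 := h.mem3
  mem4 g := by simp only [fix_iff hτ hc]; exact h.mem4 g
  mem5 := h.mem5
  mem6 g := by simp only [fix_iff hτ hc]; exact h.mem6 g

end sq

/-! ### The product of two hexagonal systems -/

section prod

variable {E : Type*} [Field E] {σ : E ≃+* E}
variable {G : Type u} {K : Type v} [Group G] [Group K]
variable {x1 x2 x3 x4 x5 x6 : E → G} {y1 y2 y3 y4 y5 y6 : E → K}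

theorem HexRel.prod (h : HexRel σ x1 x2 x3 x4 x5 x6) (k : HexRel σ y1 y2 y3 y4 y5 y6) :
    HexRel σ (fun a => (x1 a, y1 a)) (fun a => (x2 a, y2 a)) (fun a => (x3 a, y3 a))
      (fun a => (x4 a, y4 a)) (fun a => (x5 a, y5 a)) (fun a => (x6 a, y6 a)) where
  cube := h.cube
  add1 a b := Prod.ext (h.add1 a b) (k.add1 a b)
  add2 a b ha hb := Prod.ext (h.add2 a b ha hb) (k.add2 a b ha hb)
  add3 a b := Prod.ext (h.add3 a b) (k.add3 a b)
  add4 a b ha hb := Prod.ext (h.add4 a b ha hb) (k.add4 a b ha hb)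
  add5 a b := Prod.ext (h.add5 a b) (k.add5 a b)
  add6 a b ha hb := Prod.ext (h.add6 a b ha hb) (k.add6 a b ha hb)
  c12 a t ht := Prod.ext (h.c12 a t ht) (k.c12 a t ht)
  c13 a b := Prod.ext (h.c13 a b) (k.c13 a b)
  c14 a t ht := Prod.ext (h.c14 a t ht) (k.c14 a t ht)
  c15 a b := Prod.ext (h.c15 a b) (k.c15 a b)
  c16 a t ht := Prod.ext (h.c16 a t ht) (k.c16 a t ht)
  c23 t a ht := Prod.ext (h.c23 t a ht) (k.c23 t a ht)
  c24 t u ht hu := Prod.ext (h.c24 t u ht hu) (k.c24 t u ht hu)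
  c25 t a ht := Prod.ext (h.c25 t a ht) (k.c25 t a ht)
  c26 t u ht hu := Prod.ext (h.c26 t u ht hu) (k.c26 t u ht hu)
  c34 a t ht := Prod.ext (h.c34 a t ht) (k.c34 a t ht)
  c35 a b := Prod.ext (h.c35 a b) (k.c35 a b)
  c36 a t ht := Prod.ext (h.c36 a t ht) (k.c36 a t ht)
  c45 t a ht := Prod.ext (h.c45 t a ht) (k.c45 t a ht)
  c46 t u ht hu := Prod.ext (h.c46 t u ht hu) (k.c46 t u ht hu)
  c56 a t ht := Prod.ext (h.c56 a t ht) (k.c56 a t ht)

end prod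

/-! ### The family of graphs -/

section fam

variable {E : Type*} [Field E] {σ : E ≃+* E} {G : Type u} [Group G]

theorem one_of_add {x : E → G} (P : E → Prop) (h0 : P 0)
    (hadd : ∀ a b, P a → P b → x (a + b) = x a * x b) : x 0 = 1 := by
  have := hadd 0 0 h0 h0
  rw [add_zero] at this
  exact left_eq_mul.1 this

theorem inv_of_add {x : E → G} (P : E → Prop) (h0 : P 0) (hneg : ∀ a, P a → P (-a))
    (hadd : ∀ a b, P a → P b → x (a + b) = x a * x b) {a : E} (ha : P a) : x (-a) = (x a)⁻¹ := by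
  rw [eq_inv_iff_mul_eq_one, ← hadd _ _ (hneg a ha) ha, neg_add_cancel, one_of_add P h0 hadd]

/-- The subgroup of the values of an additive map on a subset closed under addition. -/
def sub (x : E → G) (P : E → Prop) (h0 : P 0) (hneg : ∀ a, P a → P (-a))
    (hP : ∀ a b, P a → P b → P (a + b)) (hadd : ∀ a b, P a → P b → x (a + b) = x a * x b) :
    Subgroup G where
  carrier := {g | ∃ a, P a ∧ x a = g}
  one_mem' := ⟨0, h0, one_of_add P h0 hadd⟩
  mul_mem' := by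
    rintro _ _ ⟨a, ha, rfl⟩ ⟨b, hb, rfl⟩
    exact ⟨a + b, hP a b ha hb, hadd a b ha hb⟩
  inv_mem' := by
    rintro _ ⟨a, ha, rfl⟩
    exact ⟨-a, hneg a ha, inv_of_add P h0 hneg hadd ha⟩

/-- The six subgroups of a hexagonal system. -/
def six (x1 x2 x3 x4 x5 x6 : E → G) (h : HexRel σ x1 x2 x3 x4 x5 x6) : ℕ → Subgroup G
  | 1 => sub x1 (fun _ => True) trivial (fun _ _ => trivial) (fun _ _ _ _ => trivial)
      (fun a b _ _ => h.add1 a b)
  | 2 => sub x2 (fun a => σ a = a) (map_zero σ) (fun a ha => by rw [map_neg, ha])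
      (fun a b ha hb => by rw [map_add, ha, hb]) h.add2
  | 3 => sub x3 (fun _ => True) trivial (fun _ _ => trivial) (fun _ _ _ _ => trivial)
      (fun a b _ _ => h.add3 a b)
  | 4 => sub x4 (fun a => σ a = a) (map_zero σ) (fun a ha => by rw [map_neg, ha])
      (fun a b ha hb => by rw [map_add, ha, hb]) h.add4
  | 5 => sub x5 (fun _ => True) trivial (fun _ _ => trivial) (fun _ _ _ _ => trivial)
      (fun a b _ _ => h.add5 a b)
  | 6 => sub x6 (fun a => σ a = a) (map_zero σ) (fun a ha => by rw [map_neg, ha])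
      (fun a b ha hb => by rw [map_add, ha, hb]) h.add6
  | _ => ⊥

end fam

section final

variable {E : Type*} [Field E] {σ : E ≃+* E}
variable {G : Type u} {K : Type v} [Group G] [Group K]
variable {X : ZMod (2 * 6) → Subgroup G} {Y : ZMod (2 * 6) → Subgroup K}
variable {x1 x2 x3 x4 x5 x6 : E → G} {y1 y2 y3 y4 y5 y6 : E → K}

omit [Field E] in
theorem exists_true {p : E → Prop} : (∃ a, True ∧ p a) ↔ ∃ a, p a := by simp

theorem hexPar_prod (h : HexPar σ X x1 x2 x3 x4 x5 x6) (k : HexPar σ Y y1 y2 y3 y4 y5 y6) :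
    HexPar σ (fun i => six _ _ _ _ _ _ (HexRel.prod h.rel k.rel) i.val)
      (fun a => (x1 a, y1 a)) (fun a => (x2 a, y2 a)) (fun a => (x3 a, y3 a))
      (fun a => (x4 a, y4 a)) (fun a => (x5 a, y5 a)) (fun a => (x6 a, y6 a)) where
  rel := HexRel.prod h.rel k.rel
  inj1 a b e := h.inj1 a b (congrArg Prod.fst e)
  inj2 a b ha hb e := h.inj2 a b ha hb (congrArg Prod.fst e)
  inj3 a b e := h.inj3 a b (congrArg Prod.fst e)
  inj4 a b ha hb e := h.inj4 a b ha hb (congrArg Prod.fst e)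
  inj5 a b e := h.inj5 a b (congrArg Prod.fst e)
  inj6 a b ha hb e := h.inj6 a b ha hb (congrArg Prod.fst e)
  mem1 _ := exists_true
  mem2 _ := Iff.rfl
  mem3 _ := exists_true
  mem4 _ := Iff.rfl
  mem5 _ := exists_true
  mem6 _ := Iff.rfl

theorem fam_of_hexPar (c : RGDZ 6 G) (c' : RGDZ 6 K) (h : HexPar σ c.X x1 x2 x3 x4 x5 x6)
    (k : HexPar σ c'.X y1 y2 y3 y4 y5 y6) :
    Fam c.r2 c'.r2 (six _ _ _ _ _ _ (HexRel.prod h.rel k.rel)) := by
  have z1 : x1 0 = 1 := one_of_add (fun _ => True) trivial fun a b _ _ => h.rel.add1 a b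
  have z2 : x2 0 = 1 := one_of_add (fun a => σ a = a) (map_zero σ) h.rel.add2
  have z3 : x3 0 = 1 := one_of_add (fun _ => True) trivial fun a b _ _ => h.rel.add3 a b
  have z4 : x4 0 = 1 := one_of_add (fun a => σ a = a) (map_zero σ) h.rel.add4
  have z5 : x5 0 = 1 := one_of_add (fun _ => True) trivial fun a b _ _ => h.rel.add5 a b
  have z6 : x6 0 = 1 := one_of_add (fun a => σ a = a) (map_zero σ) h.rel.add6
  have w1 : y1 0 = 1 := one_of_add (fun _ => True) trivial fun a b _ _ => k.rel.add1 a b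
  have w2 : y2 0 = 1 := one_of_add (fun a => σ a = a) (map_zero σ) k.rel.add2
  have w3 : y3 0 = 1 := one_of_add (fun _ => True) trivial fun a b _ _ => k.rel.add3 a b
  have w4 : y4 0 = 1 := one_of_add (fun a => σ a = a) (map_zero σ) k.rel.add4
  have w5 : y5 0 = 1 := one_of_add (fun _ => True) trivial fun a b _ _ => k.rel.add5 a b
  have w6 : y6 0 = 1 := one_of_add (fun a => σ a = a) (map_zero σ) k.rel.add6
  have e1 : c.r2.X 1 = c.X 1 := congrArg c.X Nat.cast_one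
  have e1' : c'.r2.X 1 = c'.X 1 := congrArg c'.X Nat.cast_one
  refine ⟨?_, ?_, ?_, ?_, ?_, ?_⟩
  · intro r hr1 hr2 g g' hg
    interval_cases r
    · obtain ⟨a, -, ha⟩ := hg
      rw [Prod.ext_iff] at ha
      exact ⟨e1 ▸ (h.mem1 _).2 ⟨a, ha.1⟩, e1' ▸ (k.mem1 _).2 ⟨a, ha.2⟩⟩
    · obtain ⟨a, hs, ha⟩ := hg
      rw [Prod.ext_iff] at ha
      exact ⟨(h.mem2 _).2 ⟨a, hs, ha.1⟩, (k.mem2 _).2 ⟨a, hs, ha.2⟩⟩
    · obtain ⟨a, -, ha⟩ := hg
      rw [Prod.ext_iff] at ha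
      exact ⟨(h.mem3 _).2 ⟨a, ha.1⟩, (k.mem3 _).2 ⟨a, ha.2⟩⟩
    · obtain ⟨a, hs, ha⟩ := hg
      rw [Prod.ext_iff] at ha
      exact ⟨(h.mem4 _).2 ⟨a, hs, ha.1⟩, (k.mem4 _).2 ⟨a, hs, ha.2⟩⟩
    · obtain ⟨a, -, ha⟩ := hg
      rw [Prod.ext_iff] at ha
      exact ⟨(h.mem5 _).2 ⟨a, ha.1⟩, (k.mem5 _).2 ⟨a, ha.2⟩⟩
    · obtain ⟨a, hs, ha⟩ := hg
      rw [Prod.ext_iff] at ha
      exact ⟨(h.mem6 _).2 ⟨a, hs, ha.1⟩, (k.mem6 _).2 ⟨a, hs, ha.2⟩⟩
  · intro r hr1 hr2 g hg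
    interval_cases r
    · rw [e1] at hg
      obtain ⟨a, rfl⟩ := (h.mem1 _).1 hg
      exact ⟨y1 a, a, trivial, rfl⟩
    · obtain ⟨a, hs, rfl⟩ := (h.mem2 _).1 hg
      exact ⟨y2 a, a, hs, rfl⟩
    · obtain ⟨a, rfl⟩ := (h.mem3 _).1 hg
      exact ⟨y3 a, a, trivial, rfl⟩
    · obtain ⟨a, hs, rfl⟩ := (h.mem4 _).1 hg
      exact ⟨y4 a, a, hs, rfl⟩
    · obtain ⟨a, rfl⟩ := (h.mem5 _).1 hg
      exact ⟨y5 a, a, trivial, rfl⟩
    · obtain ⟨a, hs, rfl⟩ := (h.mem6 _).1 hg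
      exact ⟨y6 a, a, hs, rfl⟩
  · intro r hr1 hr2 g hg
    interval_cases r
    · rw [e1'] at hg
      obtain ⟨a, rfl⟩ := (k.mem1 _).1 hg
      exact ⟨x1 a, a, trivial, rfl⟩
    · obtain ⟨a, hs, rfl⟩ := (k.mem2 _).1 hg
      exact ⟨x2 a, a, hs, rfl⟩
    · obtain ⟨a, rfl⟩ := (k.mem3 _).1 hg
      exact ⟨x3 a, a, trivial, rfl⟩
    · obtain ⟨a, hs, rfl⟩ := (k.mem4 _).1 hg
      exact ⟨x4 a, a, hs, rfl⟩
    · obtain ⟨a, rfl⟩ := (k.mem5 _).1 hg
      exact ⟨x5 a, a, trivial, rfl⟩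
    · obtain ⟨a, hs, rfl⟩ := (k.mem6 _).1 hg
      exact ⟨x6 a, a, hs, rfl⟩
  · intro r hr1 hr2 g hg
    interval_cases r
    · obtain ⟨a, -, ha⟩ := hg
      rw [Prod.ext_iff] at ha
      exact ha.2.symm.trans ((congrArg y1 (h.inj1 a 0 (ha.1.trans z1.symm))).trans w1)
    · obtain ⟨a, hs, ha⟩ := hg
      rw [Prod.ext_iff] at ha
      exact ha.2.symm.trans ((congrArg y2 (h.inj2 a 0 hs (map_zero σ) (ha.1.trans z2.symm))).trans w2)
    · obtain ⟨a, -, ha⟩ := hg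
      rw [Prod.ext_iff] at ha
      exact ha.2.symm.trans ((congrArg y3 (h.inj3 a 0 (ha.1.trans z3.symm))).trans w3)
    · obtain ⟨a, hs, ha⟩ := hg
      rw [Prod.ext_iff] at ha
      exact ha.2.symm.trans ((congrArg y4 (h.inj4 a 0 hs (map_zero σ) (ha.1.trans z4.symm))).trans w4)
    · obtain ⟨a, -, ha⟩ := hg
      rw [Prod.ext_iff] at ha
      exact ha.2.symm.trans ((congrArg y5 (h.inj5 a 0 (ha.1.trans z5.symm))).trans w5)
    · obtain ⟨a, hs, ha⟩ := hg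
      rw [Prod.ext_iff] at ha
      exact ha.2.symm.trans ((congrArg y6 (h.inj6 a 0 hs (map_zero σ) (ha.1.trans z6.symm))).trans w6)
  · intro r hr1 hr2 g hg
    interval_cases r
    · obtain ⟨a, -, ha⟩ := hg
      rw [Prod.ext_iff] at ha
      exact ha.1.symm.trans ((congrArg x1 (k.inj1 a 0 (ha.2.trans w1.symm))).trans z1)
    · obtain ⟨a, hs, ha⟩ := hg
      rw [Prod.ext_iff] at ha
      exact ha.1.symm.trans ((congrArg x2 (k.inj2 a 0 hs (map_zero σ) (ha.2.trans w2.symm))).trans z2)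
    · obtain ⟨a, -, ha⟩ := hg
      rw [Prod.ext_iff] at ha
      exact ha.1.symm.trans ((congrArg x3 (k.inj3 a 0 (ha.2.trans w3.symm))).trans z3)
    · obtain ⟨a, hs, ha⟩ := hg
      rw [Prod.ext_iff] at ha
      exact ha.1.symm.trans ((congrArg x4 (k.inj4 a 0 hs (map_zero σ) (ha.2.trans w4.symm))).trans z4)
    · obtain ⟨a, -, ha⟩ := hg
      rw [Prod.ext_iff] at ha
      exact ha.1.symm.trans ((congrArg x5 (k.inj5 a 0 (ha.2.trans w5.symm))).trans z5)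
    · obtain ⟨a, hs, ha⟩ := hg
      rw [Prod.ext_iff] at ha
      exact ha.1.symm.trans ((congrArg x6 (k.inj6 a 0 hs (map_zero σ) (ha.2.trans w6.symm))).trans z6)
  · intro r l hr hrl hl g hg g' hg'
    have hval : ∀ s : ℕ, s ≤ 6 → ((s : ℕ) : ZMod (2 * 6)).val = s := fun s hs =>
      ZMod.val_natCast_of_lt (by omega)
    have h1 := comm_of_hexPar (hexPar_prod h k) r l hr hrl hl g
      (by rw [hval r (by omega)]; exact hg) g' (by rw [hval l hl]; exact hg')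
    refine (iSup₂_le fun s hs => ?_ :
      (⨆ s ∈ Set.Ioo r l, six _ _ _ _ _ _ (HexRel.prod h.rel k.rel) ((s : ℕ) : ZMod (2 * 6)).val) ≤ _) h1
    rw [hval s (by have := hs.2; omega)]
    exact le_iSup₂_of_le (f := fun s (_ : s ∈ Set.Ioo r l) =>
      six _ _ _ _ _ _ (HexRel.prod h.rel k.rel) s) s hs le_rfl

/-- **Two simple groups with hexagonal root systems over the same `(E, σ)` are isomorphic.** -/
theorem nonempty_mulEquiv [IsSimpleGroup G] [IsSimpleGroup K] (c : RGDZ 6 G) (c' : RGDZ 6 K)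
    (hgen : ⨆ i, c.X i = ⊤) (hgen' : ⨆ i, c'.X i = ⊤) (hU : c.U ≠ ⊤) (hU' : c'.U ≠ ⊤)
    (h : HexPar σ c.X x1 x2 x3 x4 x5 x6) (k : HexPar σ c'.X y1 y2 y3 y4 y5 y6) :
    Nonempty (G ≃* K) :=
  ident_rgdz (by norm_num) c c' hgen hgen' hU hU' (fam_of_hexPar c c' h k)

end final

end Cfsg.Agent.Hexagon.Ident
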