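import Cfsg.Agent.S1042
import Cfsg.Agent.ChevalleyStructure.WordCheck
import Cfsg.Agent.Hexagon.Pos
import Cfsg.Agent.S1055
set_option linter.all false

-- part: Hexagon/Words
section
/-!
# Word identities in the root elements of a Chevalley group

`gval hD ρ w`: the element of `GL` given by the symbolic word `w` at the parameters `ρ`.
`gval_eq`, `gval_comm`: identities from the reflective checker.
-/

set_option autoImplicit false

namespace Cfsg.Agent.Hexagon.Words

open Cfsg.Lie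
open Cfsg.Agent.ChevalleyStructure.Elts Cfsg.Agent.ChevalleyStructure.WordCheck
open scoped commutatorElement

universe u

variable {F : Type u} [Field F] {D : ChevalleyDatum}

/-- inverse word -/
def winv (w : List (ℕ × PExpr)) : List (ℕ × PExpr) := (w.map fun p => (p.1, .neg p.2)).reverse

/-- commutator word -/
def cw (w v : List (ℕ × PExpr)) : List (ℕ × PExpr) := w ++ (v ++ (winv w ++ winv v))

/-- value of a symbolic word -/
def gval (hD : InList D) (ρ : ℕ → F) (w : List (ℕ × PExpr)) : GL D.Idx F := wordG hD (wval ρ w)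

theorem gval_nil (hD : InList D) (ρ : ℕ → F) : gval hD ρ [] = 1 := rfl

theorem gval_cons (hD : InList D) (ρ : ℕ → F) (r : ℕ) (p : PExpr) (w : List (ℕ × PExpr)) :
    gval hD ρ ((r, p) :: w) = xG hD r (p.denote ρ) * gval hD ρ w := wordG_cons hD _ _

theorem gval_append (hD : InList D) (ρ : ℕ → F) (w v : List (ℕ × PExpr)) :
    gval hD ρ (w ++ v) = gval hD ρ w * gval hD ρ v := by
  unfold gval wval
  rw [List.map_append, wordG_append]

theorem gval_winv (hD : InList D) (ρ : ℕ → F) (w : List (ℕ × PExpr)) :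
    gval hD ρ (winv w) = (gval hD ρ w)⁻¹ := by
  induction w with
  | nil => simp [winv, gval_nil]
  | cons p w ih =>
    obtain ⟨r, p⟩ := p
    have e : winv ((r, p) :: w) = winv w ++ [(r, .neg p)] := by simp [winv]
    rw [e, gval_append, ih, gval_cons, gval_cons, gval_nil, mul_one, mul_inv_rev, xG_inv]
    rfl

theorem gval_cw (hD : InList D) (ρ : ℕ → F) (w v : List (ℕ × PExpr)) :
    gval hD ρ (cw w v) = ⁅gval hD ρ w, gval hD ρ v⁆ := by
  unfold cw
  rw [gval_append, gval_append, gval_append, gval_winv, gval_winv, commutatorElement_def]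
  group

/-- equality of two words from the check -/
theorem gval_eq (hD : InList D) (ρ : ℕ → F) (nv : ℕ) {w v : List (ℕ × PExpr)}
    (h : check D 0 0 nv (xw w) (xw v) = true) : gval hD ρ w = gval hD ρ v := by
  apply Units.ext
  unfold gval
  rw [coe_wordG, coe_wordG]
  exact wordMat_eq_of_check D ρ 0 0 nv w v h (by simp) (by simp)

/-- commutator identities from the check -/
theorem gval_comm (hD : InList D) (ρ : ℕ → F) (nv : ℕ) {w v z : List (ℕ × PExpr)}
    (h : check D 0 0 nv (xw (cw w v)) (xw z) = true) : ⁅gval hD ρ w, gval hD ρ v⁆ = gval hD ρ z := by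
  rw [← gval_cw]
  exact gval_eq hD ρ nv h

end Cfsg.Agent.Hexagon.Words
end

-- part: Hexagon/G2Pos
section
/-!
# The positive relations of `chevG2.group F` in the form `HexPos`
-/

set_option autoImplicit false

namespace Cfsg.Agent.Hexagon.G2Pos

open Cfsg.Lie
open Cfsg.Agent.ChevalleyStructure.Elts Cfsg.Agent.ChevalleyStructure.WordCheck
open Cfsg.Agent.Hexagon.Words Cfsg.Agent.Hexagon.Pos
open Cfsg.Agent.Hex.Defs (sh cr nm tr)
open scoped commutatorElement

universe u

variable {F : Type u} [Field F]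

theorem hG2 : InList chevG2 := List.mem_cons_self

/-- root elements in the group -/
def xs (r : ℕ) (t : F) : ↥(chevG2.group F) := ⟨xG hG2 r t, xG_mem_group hG2 r t⟩

theorem coe_xs (r : ℕ) (t : F) : ((xs r t : ↥(chevG2.group F)) : GL chevG2.Idx F) = xG hG2 r t := rfl

theorem xs_add (r : ℕ) (s t : F) : (xs r (s + t) : ↥(chevG2.group F)) = xs r s * xs r t :=
  Subtype.ext (xG_add hG2 r s t).symm

theorem xs_eq_one {r : ℕ} (hr : r < 12) (t : F) (h : (xs r t : ↥(chevG2.group F)) = 1) : t = 0 :=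
  (xG_eq_one_iff hG2 (show r < chevG2.nroots from hr) t).1 (congrArg Subtype.val h)

/-- the identity as an automorphism -/
abbrev idF (F : Type u) [Field F] : F ≃ₐ[F] F := AlgEquiv.refl

theorem pair_idF (F : Type u) [Field F] : Pair (idF F) := ⟨fun _ => rfl, fun t _ => ⟨t, rfl⟩⟩

theorem tr_id (t : F) : tr (idF F) t = 3 * t := by
  have h := algebraMap_tr (pair_idF F) t
  rw [Algebra.algebraMap_self_apply] at h
  rw [h]
  simp only [AlgEquiv.coe_refl, id]
  ring

theorem nm_id (t : F) : nm (idF F) t = t ^ 3 := by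
  have h := algebraMap_nm (pair_idF F) t
  rw [Algebra.algebraMap_self_apply] at h
  rw [h]
  simp only [AlgEquiv.coe_refl, id]
  ring

theorem sh_id (t : F) : sh (idF F) t = t ^ 2 := by
  unfold sh
  simp only [AlgEquiv.coe_refl, id]
  ring

theorem cr_id (s t : F) : cr (idF F) s t = 2 * s * t := by
  unfold cr
  simp only [AlgEquiv.coe_refl, id]
  ring

/-- parameters -/
def rho (s t : F) : ℕ → F := fun i => if i = 0 then s else t

theorem rho0 (s t : F) : rho s t 0 = s := rfl
theorem rho1 (s t : F) : rho s t 1 = t := rfl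

theorem comm_eq {r r' : ℕ} (s t : F) {z : List (ℕ × PExpr)} {g : ↥(chevG2.group F)}
    (h : check chevG2 0 0 2 (xw (cw [(r, .var 0)] [(r', .var 1)])) (xw z) = true)
    (hz : gval hG2 (rho s t) z = g) : ⁅(xs r s : ↥(chevG2.group F)), xs r' t⁆ = g := by
  apply Subtype.ext
  rw [← hz]
  have h1 := gval_comm hG2 (rho s t) 2 h
  rw [gval_cons, gval_nil, mul_one, gval_cons, gval_nil, mul_one] at h1
  exact h1

theorem comm_one {r r' : ℕ} (s t : F)
    (h : check chevG2 0 0 2 (xw (cw [(r, .var 0)] [(r', .var 1)])) (xw []) = true) :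
    ⁅(xs r s : ↥(chevG2.group F)), xs r' t⁆ = 1 := comm_eq s t h rfl

/-- The package of `chevG2.group F`. -/
def pos (F : Type u) [Field F] : HexPos (idF F) ↥(chevG2.group F) where
  x1 := xs 7
  x2 := xs 10
  x3 := xs 9
  x4 := xs 11
  x5 := xs 8
  x6 := xs 6
  add1 := xs_add 7
  add2 := xs_add 10
  add3 := xs_add 9
  add4 := xs_add 11
  add5 := xs_add 8
  add6 := xs_add 6
  inj1 := xs_eq_one (by norm_num)
  inj2 := xs_eq_one (by norm_num)
  inj3 := xs_eq_one (by norm_num)
  inj4 := xs_eq_one (by norm_num)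
  inj5 := xs_eq_one (by norm_num)
  inj6 := xs_eq_one (by norm_num)
  r13 := fun a b => by
    refine comm_eq a b (z := [(10, .mul (.const 3) (.mul (.var 0) (.var 1)))]) (by decide +kernel) ?_
    rw [gval_cons, gval_nil, mul_one, tr_id, coe_xs]
    simp [PExpr.denote, rho0, rho1]
  r35 := fun a b => by
    refine comm_eq a b (z := [(11, .neg (.mul (.const 3) (.mul (.var 0) (.var 1))))]) (by decide +kernel) ?_
    rw [gval_cons, gval_nil, mul_one, tr_id, coe_xs]
    simp [PExpr.denote, rho0, rho1]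
  r26 := fun a b => by
    refine comm_eq a b (z := [(11, .neg (.mul (.var 0) (.var 1)))]) (by decide +kernel) ?_
    rw [gval_cons, gval_nil, mul_one, coe_xs]
    simp [PExpr.denote, rho0, rho1]
  r15 := fun a b => by
    refine comm_eq a b (z := [(10, .neg (.mul (.const 3) (.mul (.pow (.var 0) 2) (.var 1)))),
      (9, .neg (.mul (.mul (.const 2) (.var 0)) (.var 1))),
      (11, .neg (.mul (.const 3) (.mul (.var 0) (.pow (.var 1) 2))))]) (by decide +kernel) ?_
    rw [gval_cons, gval_cons, gval_cons, gval_nil, mul_one, tr_id, tr_id, sh_id, sh_id, cr_id,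
      Subgroup.coe_mul, Subgroup.coe_mul, coe_xs, coe_xs, coe_xs, mul_assoc]
    simp [PExpr.denote, rho0, rho1]
  r16 := fun a b => by
    refine comm_eq a b (z := [(10, .mul (.var 1) (.pow (.var 0) 3)), (9, .mul (.var 1) (.pow (.var 0) 2)),
      (11, .neg (.mul (.pow (.var 1) 2) (.pow (.var 0) 3))), (8, .neg (.mul (.var 1) (.var 0)))])
      (by decide +kernel) ?_
    rw [gval_cons, gval_cons, gval_cons, gval_cons, gval_nil, mul_one, nm_id, sh_id,
      Subgroup.coe_mul, Subgroup.coe_mul, Subgroup.coe_mul, coe_xs, coe_xs, coe_xs, coe_xs, mul_assoc, mul_assoc]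
    simp [PExpr.denote, rho0, rho1]
  c12 := fun a b => comm_one a b (by decide +kernel)
  c14 := fun a b => comm_one a b (by decide +kernel)
  c23 := fun a b => comm_one a b (by decide +kernel)
  c24 := fun a b => comm_one a b (by decide +kernel)
  c25 := fun a b => comm_one a b (by decide +kernel)
  c34 := fun a b => comm_one a b (by decide +kernel)
  c36 := fun a b => comm_one a b (by decide +kernel)
  c45 := fun a b => comm_one a b (by decide +kernel)
  c46 := fun a b => comm_one a b (by decide +kernel)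
  c56 := fun a b => comm_one a b (by decide +kernel)

end Cfsg.Agent.Hexagon.G2Pos
end

-- part: Hexagon/G2Side
section
/-!
# The root datum `RGDZ 6` of `chevG2.group F` and the identification theorem for `G₂`
-/

set_option autoImplicit false

namespace Cfsg.Agent.Hexagon.G2Side

open Cfsg.Lie
open Cfsg.Agent.ChevalleyStructure.Elts Cfsg.Agent.ChevalleyStructure.NConj
open Cfsg.Agent.ChevalleyStructure.BNChev
open Cfsg.Agent.Hexagon.Pos Cfsg.Agent.Hexagon.G2Pos
open Cfsg.Agent.TitsThree.RankTwoIdx Cfsg.Agent.TitsThree.RankTwoZ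
open scoped commutatorElement

universe u

variable {F : Type u} [Field F]

/-- the root with number `k` in the cyclic order -/
def tab (k : ZMod (2 * 6)) : ℕ := [5, 7, 10, 9, 11, 8, 6, 4, 1, 2, 0, 3].getD k.val 0

theorem tab_lt : ∀ k : ZMod (2 * 6), tab k < 12 := by decide +kernel

theorem tab_I : ∀ k : ZMod (2 * 6), chevG2.reflectRoot 0 (tab k) = tab (((6 : ℕ) : ZMod (2 * 6)) + 2 - k) := by
  decide +kernel

theorem tab_J : ∀ k : ZMod (2 * 6), chevG2.reflectRoot 1 (tab k) = tab (((6 : ℕ) : ZMod (2 * 6)) - k) := by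
  decide +kernel

theorem tab_surj : ∀ r < 12, ∃ k : ZMod (2 * 6), tab k = r := by decide +kernel

/-- The root groups. -/
def X (F : Type u) [Field F] (k : ZMod (2 * 6)) : Subgroup ↥(chevG2.group F) :=
  (chevG2.rootSubgroup F (tab k)).subgroupOf (chevG2.group F)

theorem mem_X {k : ZMod (2 * 6)} {g : ↥(chevG2.group F)} : g ∈ X F k ↔ ∃ t, g = xs (tab k) t := by
  unfold X
  rw [Subgroup.mem_subgroupOf, mem_rootSubgroup_iff hG2]
  constructor
  · rintro ⟨t, ht⟩
    exact ⟨t, Subtype.ext ht⟩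
  · rintro ⟨t, ht⟩
    exact ⟨t, congrArg Subtype.val ht⟩

theorem maps_of {g : ↥(chevG2.group F)} {f : ZMod (2 * 6) → ZMod (2 * 6)}
    (h1 : ∀ k t, ∃ u, (g : GL chevG2.Idx F) * xG hG2 (tab k) t * (g : GL chevG2.Idx F)⁻¹ = xG hG2 (tab (f k)) u)
    (h2 : ∀ k t, ∃ u, (g : GL chevG2.Idx F)⁻¹ * xG hG2 (tab (f k)) t * (g : GL chevG2.Idx F) = xG hG2 (tab k) u) :
    Maps (X F) g f := by
  intro k x
  rw [mem_X, mem_X]
  constructor
  · rintro ⟨t, ht⟩
    obtain ⟨u, hu⟩ := h2 k t
    refine ⟨u, Subtype.ext ?_⟩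
    have h3 := congrArg (Subtype.val) ht
    simp only [Subgroup.coe_mul, Subgroup.coe_inv, coe_xs] at h3
    rw [coe_xs, ← hu, ← h3]
    group
  · rintro ⟨t, rfl⟩
    obtain ⟨u, hu⟩ := h1 k t
    refine ⟨u, Subtype.ext ?_⟩
    simp only [Subgroup.coe_mul, Subgroup.coe_inv, coe_xs]
    exact hu

/-- conjugation by `n_{p_i}(t)` -/
theorem nG_conj {i : ℕ} (hi : i < 2) {t : F} (ht : t ≠ 0) {s : ℕ} (hs : s < 12) (u : F) :
    ∃ v, nG hG2 (chevG2.simple i) t * xG hG2 s u * (nG hG2 (chevG2.simple i) t)⁻¹ =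
      xG hG2 (chevG2.reflectRoot i s) v := by
  obtain ⟨η, -, h1, -⟩ := conj_x (F := F) hG2 (show i < chevG2.rank from hi) (show s < chevG2.nroots from hs)
  have hr : chevG2.simple i < chevG2.nroots := by
    have h : ∀ i < 2, chevG2.simple i < chevG2.nroots := by decide +kernel
    exact h i hi
  have hs' : chevG2.reflectRoot i s < chevG2.nroots := by
    have h : ∀ i < 2, ∀ s < 12, chevG2.reflectRoot i s < chevG2.nroots := by decide +kernel
    exact h i hi s hs
  obtain ⟨c, -, h2⟩ := diagonal_conj hG2 (hG_mem_diagonal hG2 hr ht) hs'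
  refine ⟨c * (η * u), ?_⟩
  rw [nG_eq, ← h2, ← h1]
  group

theorem maps_n {i : ℕ} (hi : i < 2) {f : ZMod (2 * 6) → ZMod (2 * 6)}
    (hf : ∀ k, chevG2.reflectRoot i (tab k) = tab (f k)) (hff : ∀ k, f (f k) = k) {t : F} (ht : t ≠ 0)
    {g : ↥(chevG2.group F)} (hg : (g : GL chevG2.Idx F) = nG hG2 (chevG2.simple i) t) : Maps (X F) g f := by
  refine maps_of (fun k u => ?_) (fun k u => ?_)
  · rw [hg, ← hf]
    exact nG_conj hi ht (tab_lt k) u
  · have h1 : (g : GL chevG2.Idx F)⁻¹ = nG hG2 (chevG2.simple i) (-t) := by rw [hg, nG_inv]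
    have h2 : (g : GL chevG2.Idx F) = (nG hG2 (chevG2.simple i) (-t))⁻¹ := by rw [← h1, inv_inv]
    rw [h1, h2]
    obtain ⟨v, hv⟩ := nG_conj hi (neg_ne_zero.2 ht) (tab_lt (f k)) u
    rw [hf, hff] at hv
    exact ⟨v, hv⟩

theorem X_eq : ∀ k : ℕ, 1 ≤ k → k ≤ 6 → X F (k : ZMod (2 * 6)) = (pos F).X k := by
  intro k h1 h2
  have key : ∀ (r : ℕ) (h : ∀ s t, (xs r (s + t) : ↥(chevG2.group F)) = xs r s * xs r t),
      tab (k : ZMod (2 * 6)) = r → X F (k : ZMod (2 * 6)) = (hom (xs r) h).range := by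
    intro r h hr
    ext g
    rw [mem_X, mem_hom_range, hr]
    exact ⟨fun ⟨t, ht⟩ => ⟨t, ht.symm⟩, fun ⟨t, ht⟩ => ⟨t, ht.symm⟩⟩
  have hk : k = 1 ∨ k = 2 ∨ k = 3 ∨ k = 4 ∨ k = 5 ∨ k = 6 := by omega
  rcases hk with rfl | rfl | rfl | rfl | rfl | rfl
  · exact key 7 _ (by decide +kernel)
  · exact key 10 _ (by decide +kernel)
  · exact key 9 _ (by decide +kernel)
  · exact key 11 _ (by decide +kernel)
  · exact key 8 _ (by decide +kernel)
  · exact key 6 _ (by decide +kernel)

theorem ne_bot (k : ZMod (2 * 6)) : X F k ≠ ⊥ := by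
  intro h
  have h1 : xs (tab k) (1 : F) ∈ X F k := mem_X.2 ⟨1, rfl⟩
  rw [h] at h1
  exact one_ne_zero (xs_eq_one (tab_lt k) (1 : F) h1)

/-- The element `x_r(t) x_{-r}(s) x_r(t)`, `t = -s⁻¹`. -/
theorem xyx_eq {r r' : ℕ} (hr : chevG2.neg r = r') {s : F} :
    ((xs r (-s⁻¹) * xs r' s * xs r (-s⁻¹) : ↥(chevG2.group F)) : GL chevG2.Idx F) = nG hG2 r (-s⁻¹) := by
  rw [nG_def, hr, Subgroup.coe_mul, Subgroup.coe_mul, coe_xs, coe_xs, inv_neg, neg_neg, inv_inv, mul_assoc]

/-- **The root datum of `chevG2.group F`.** -/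
def rgdz (F : Type u) [Field F] : RGDZ 6 ↥(chevG2.group F) where
  X := X F
  one_le := by norm_num
  comm := by
    intro k l h1 h2 h3 x hx y hy
    have e : (⨆ r ∈ Set.Ioo k l, X F ((r : ℕ) : ZMod (2 * 6))) = ⨆ r ∈ Set.Ioo k l, (pos F).X r := by
      refine iSup_congr fun r => iSup_congr fun hr => ?_
      have := hr.1
      have := hr.2
      exact X_eq r (by omega) (by omega)
    rw [e]
    refine (pos F).comm k l h1 h2 h3 x ?_ y ?_
    · rw [← X_eq k h1 (by omega)]; exact hx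
    · rw [← X_eq l (by omega) h3]; exact hy
  muI := by
    intro a ha h1
    obtain ⟨s, rfl⟩ := mem_X.1 ha
    have e : tab (((6 : ℕ) : ZMod (2 * 6)) + 1) = 4 := by decide +kernel
    rw [e] at h1 ⊢
    have hs : s ≠ 0 := by
      rintro rfl
      exact h1 (Subtype.ext (xG_zero hG2 4))
    have h2 : xs 7 (-s⁻¹) ∈ X F 1 := mem_X.2 ⟨_, by
      have e' : tab 1 = 7 := by decide +kernel
      rw [e']⟩
    refine ⟨_, h2, _, h2, ?_⟩
    refine maps_n (i := 0) (t := -s⁻¹) (by norm_num) (fun k => tab_I k) (fun k => by ring)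
      (neg_ne_zero.2 (inv_ne_zero hs)) ?_
    exact xyx_eq (by decide +kernel)
  muJ := by
    intro a ha h1
    obtain ⟨s, rfl⟩ := mem_X.1 ha
    have e : tab 0 = 5 := by decide +kernel
    rw [e] at h1 ⊢
    have hs : s ≠ 0 := by
      rintro rfl
      exact h1 (Subtype.ext (xG_zero hG2 5))
    have h2 : xs 6 (-s⁻¹) ∈ X F ((6 : ℕ) : ZMod (2 * 6)) := mem_X.2 ⟨_, by
      have e' : tab ((6 : ℕ) : ZMod (2 * 6)) = 6 := by decide +kernel
      rw [e']⟩
    refine ⟨_, h2, _, h2, ?_⟩
    refine maps_n (i := 1) (t := -s⁻¹) (by norm_num) (fun k => tab_J k) (fun k => by ring)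
      (neg_ne_zero.2 (inv_ne_zero hs)) ?_
    exact xyx_eq (by decide +kernel)
  neI := ne_bot _
  neJ := ne_bot _

/-- The root groups generate. -/
theorem gen (F : Type u) [Field F] : ⨆ k, (rgdz F).X k = ⊤ := by
  rw [eq_top_iff]
  have h1 : chevG2.group F ≤ (⨆ k, (rgdz F).X k).map (chevG2.group F).subtype := by
    rw [group_le_iff hG2]
    intro r hr t
    obtain ⟨k, rfl⟩ := tab_surj r hr
    exact ⟨xs (tab k) t, (le_iSup (rgdz F).X k) (mem_X.2 ⟨t, rfl⟩), rfl⟩
  intro g _
  obtain ⟨g', hg', e⟩ := h1 g.2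
  have h2 : g' = g := Subtype.ext e
  rw [← h2]
  exact hg'

end Cfsg.Agent.Hexagon.G2Side
end
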