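import Cfsg.Agent.ChevStructure.FieldMap
import Cfsg.Agent.PermutationGroups.FieldCoord
import Cfsg.Prelude.Def_LieTwisted
set_option linter.all false

/-!
# `³D₄` and isomorphisms of fields
-/

set_option autoImplicit false

namespace Cfsg.Agent.Hexagon.D4Field

open Cfsg.Lie
open Cfsg.Agent.ChevStructure.FieldMap

universe u v

variable {F : Type u} {K : Type v} [Field F] [Field K]

theorem words_map (f : F ≃+* K) (q : ℕ) {w : List (ℕ × F)} (hw : w ∈ d4Words F q) :
    (w.map fun p => (p.1, f p.2)) ∈ d4Words K q := by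
  rcases hw with ⟨t, ht, r, hr, rfl⟩ | ⟨t, rs, hrs, rfl⟩
  · left
    refine ⟨f t, by rw [← map_pow, ht], r, hr, rfl⟩
  · right
    refine ⟨f t, rs, hrs, ?_⟩
    simp only [List.map_cons, List.map_nil, map_pow]

theorem le_map (f : F ≃+* K) (q : ℕ) :
    (twistedD4 F q).map (glEquiv chevD4 f).toMonoidHom ≤ twistedD4 K q := by
  rw [twistedD4, ChevalleyDatum.genSubgroup, MonoidHom.map_closure, Subgroup.closure_le]
  rintro _ ⟨g, ⟨w, hw, hg⟩, rfl⟩
  refine Subgroup.subset_closure ⟨_, words_map f q hw, ?_⟩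
  change (glEquiv chevD4 f g : Matrix chevD4.Idx chevD4.Idx K) = _
  rw [glEquiv_coe, hg]
  exact wordMat_map chevD4 (f : F →+* K) w

theorem map_twistedD4 (f : F ≃+* K) (q : ℕ) :
    (twistedD4 F q).map (glEquiv chevD4 f).toMonoidHom = twistedD4 K q := by
  refine le_antisymm (le_map f q) fun g hg => ?_
  refine ⟨(glEquiv chevD4 f).symm g, ?_, (glEquiv chevD4 f).apply_symm_apply g⟩
  have h := le_map f.symm q ⟨g, hg, rfl⟩
  have e : (glEquiv chevD4 f.symm).toMonoidHom g = (glEquiv chevD4 f).symm g := by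
    apply Units.ext
    rfl
  rwa [e] at h

/-- A field isomorphism induces an isomorphism of the triality twisted groups. -/
noncomputable def equiv (f : F ≃+* K) (q : ℕ) : ↥(twistedD4 F q) ≃* ↥(twistedD4 K q) :=
  ((glEquiv chevD4 f).subgroupMap (twistedD4 F q)).trans (MulEquiv.subgroupCongr (map_twistedD4 f q))

end Cfsg.Agent.Hexagon.D4Field
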